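import Mathlib

/-!
# Attaching a branch to an algebra presented by generators and relations

Given an algebra `A = P ⧸ span S`, an `R`-point `γ` of it and values `q` with suitable compatibility, the algebra with
one more generator `x` and the relations `x * y = γ y * x + q y` is `A × R[x]·x` as a module.
-/

set_option autoImplicit false
set_option backward.isDefEq.respectTransparency false
universe u

namespace Groth.Agent.CurveBasis

open MvPolynomial

variable {R : Type u} [CommRing R] {σ : Type} (S : Set (MvPolynomial σ R)) (γ : σ → R)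
  (q : σ → MvPolynomial σ R)

theorem smul_eq_mk {τ : Type} (I : Ideal (MvPolynomial τ R)) (r : R) (x : MvPolynomial τ R ⧸ I) :
    r • x = Ideal.Quotient.mk I (C r) * x := by
  obtain ⟨f, rfl⟩ := Ideal.Quotient.mk_surjective x
  rw [← map_mul, ← smul_eq_C_mul]
  rfl

/-- The algebra. -/
abbrev Base : Type u := MvPolynomial σ R ⧸ Ideal.span S

/-- The triangular operator of a generator. -/
noncomputable def L (y : σ) : Module.End R (Base S × R) :=
  LinearMap.prod
    ((LinearMap.mulLeft R (Ideal.Quotient.mk (Ideal.span S) (X y))).comp (LinearMap.fst R _ _) +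
      (LinearMap.toSpanSingleton R (Base S) (Ideal.Quotient.mk (Ideal.span S) (q y))).comp (LinearMap.snd R _ _))
    (γ y • LinearMap.snd R _ _)

theorem L_apply (y : σ) (a : Base S) (b : R) :
    L S γ q y (a, b) = (Ideal.Quotient.mk (Ideal.span S) (X y) * a + b • Ideal.Quotient.mk (Ideal.span S) (q y),
      γ y * b) := rfl

/-- Compatibility of the values at two generators. -/
def Compat : Prop :=
  ∀ y z, (Ideal.Quotient.mk (Ideal.span S) ((X y - C (γ y)) * q z) : Base S) =
    Ideal.Quotient.mk (Ideal.span S) ((X z - C (γ z)) * q y)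

variable {S γ q}

theorem L_comm (hc : Compat S γ q) (y z : σ) : L S γ q y * L S γ q z = L S γ q z * L S γ q y := by
  apply LinearMap.ext
  rintro ⟨a, b⟩
  simp only [Module.End.mul_apply, L_apply]
  refine Prod.ext ?_ (mul_left_comm _ _ _)
  have h := congrArg (b • ·) (hc y z)
  simp only [smul_eq_mk, map_mul, map_sub] at h ⊢
  linear_combination h

variable (S γ q) in
/-- The triangular representation of the polynomial ring. -/
noncomputable def tri (hc : Compat S γ q) : MvPolynomial σ R →ₐ[R] Module.End R (Base S × R) :=
  letI := Algebra.adjoinCommRingOfComm R (s := Set.range (L S γ q))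
    (by rintro _ ⟨y, rfl⟩ _ ⟨z, rfl⟩; exact L_comm hc y z)
  (Algebra.adjoin R (Set.range (L S γ q))).val.comp
    (aeval fun y => (⟨L S γ q y, Algebra.subset_adjoin ⟨y, rfl⟩⟩ : Algebra.adjoin R (Set.range (L S γ q))))

theorem tri_X (hc : Compat S γ q) (y : σ) : tri S γ q hc (X y) = L S γ q y := by
  simp [tri]

theorem tri_apply (hc : Compat S γ q) (f : MvPolynomial σ R) : ∀ (a : Base S) (b : R),
    tri S γ q hc f (a, b) =
      (Ideal.Quotient.mk (Ideal.span S) f * a + b • (tri S γ q hc f (0, 1)).1, eval γ f * b) := by
  induction f using MvPolynomial.induction_on with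
  | C r =>
    intro a b
    have : tri S γ q hc (C r) = algebraMap R _ r := (tri S γ q hc).commutes r
    rw [this, eval_C]
    simp only [Module.algebraMap_end_apply, Prod.smul_mk, smul_zero, add_zero, smul_eq_mul]
    rw [smul_eq_mk]
  | add f g hf hg =>
    intro a b
    rw [map_add, LinearMap.add_apply, LinearMap.add_apply, hf, hg, map_add, map_add, Prod.mk_add_mk, Prod.fst_add,
      smul_add]
    exact Prod.ext (by ring) (by ring)
  | mul_X f y hf =>
    intro a b
    rw [map_mul, tri_X, Module.End.mul_apply, Module.End.mul_apply, L_apply, L_apply, hf, hf (_ + _) (γ y * 1),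
      map_mul, map_mul, eval_X]
    refine Prod.ext ?_ (by ring)
    simp only [smul_eq_mk, map_mul, map_one, mul_zero, zero_add, add_zero, one_mul, mul_one, mul_add]
    ring

variable (S γ q) in
/-- The twisted derivation. -/
noncomputable def der (hc : Compat S γ q) (f : MvPolynomial σ R) : Base S := (tri S γ q hc f (0, 1)).1

theorem der_X (hc : Compat S γ q) (y : σ) : der S γ q hc (X y) = Ideal.Quotient.mk (Ideal.span S) (q y) := by
  simp [der, tri_X, L_apply]

theorem der_C (hc : Compat S γ q) (r : R) : der S γ q hc (C r) = 0 := by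
  show (tri S γ q hc (C r) (0, 1)).1 = 0
  rw [show tri S γ q hc (C r) = algebraMap R _ r from (tri S γ q hc).commutes r]
  simp

theorem der_add (hc : Compat S γ q) (f g : MvPolynomial σ R) :
    der S γ q hc (f + g) = der S γ q hc f + der S γ q hc g := by
  simp [der]

theorem der_sub (hc : Compat S γ q) (f g : MvPolynomial σ R) :
    der S γ q hc (f - g) = der S γ q hc f - der S γ q hc g := by
  simp [der]

theorem der_mul (hc : Compat S γ q) (f g : MvPolynomial σ R) :
    der S γ q hc (f * g) =
      Ideal.Quotient.mk (Ideal.span S) f * der S γ q hc g + eval γ g • der S γ q hc f := by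
  unfold der
  rw [map_mul, Module.End.mul_apply, tri_apply hc g 0 1, tri_apply hc f]
  simp

/-- The conditions for attaching. -/
structure Good (S : Set (MvPolynomial σ R)) (γ : σ → R) (q : σ → MvPolynomial σ R) : Prop where
  compat : Compat S γ q
  point : ∀ f ∈ S, eval γ f = 0
  der_eq : ∀ f ∈ S, der S γ q compat f = 0

theorem tri_eq_zero (h : Good S γ q) {f : MvPolynomial σ R} (hf : f ∈ Ideal.span S) : tri S γ q h.compat f = 0 := by
  induction hf using Submodule.span_induction with
  | mem f hf =>
    apply LinearMap.ext
    rintro ⟨a, b⟩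
    have hd : (tri S γ q h.compat f (0, 1)).1 = 0 := h.der_eq f hf
    rw [tri_apply, h.point f hf, hd, Ideal.Quotient.eq_zero_iff_mem.2 (Ideal.subset_span hf)]
    simp
  | zero => exact map_zero _
  | add f g _ _ hf hg => rw [map_add, hf, hg, add_zero]
  | smul r f _ hf => rw [smul_eq_mul, map_mul, hf, mul_zero]

/-- The representation of the algebra. -/
noncomputable def triA (h : Good S γ q) : Base S →ₐ[R] Module.End R (Base S × R) :=
  Ideal.Quotient.liftₐ (Ideal.span S) (tri S γ q h.compat) fun _ hf => tri_eq_zero h hf

/-- The twisted derivation on the algebra. -/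
noncomputable def derA (h : Good S γ q) : Base S →ₗ[R] Base S :=
  (LinearMap.fst R _ _).comp ((LinearMap.applyₗ ((0 : Base S), (1 : R))).comp (triA h).toLinearMap)

/-- The point of the algebra. -/
noncomputable def pointA (h : Good S γ q) : Base S →ₐ[R] R :=
  Ideal.Quotient.liftₐ (Ideal.span S) (aeval γ) fun f hf => by
    induction hf using Submodule.span_induction with
    | mem f hf => rw [aeval_eq_eval]; exact h.point f hf
    | zero => exact map_zero _
    | add f g _ _ hf hg => rw [map_add, hf, hg, add_zero]
    | smul r f _ hf => rw [smul_eq_mul, map_mul, hf, mul_zero]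

theorem derA_mk (h : Good S γ q) (f : MvPolynomial σ R) :
    derA h (Ideal.Quotient.mk (Ideal.span S) f) = der S γ q h.compat f := rfl

theorem pointA_mk (h : Good S γ q) (f : MvPolynomial σ R) :
    pointA h (Ideal.Quotient.mk (Ideal.span S) f) = eval γ f := by
  rw [← aeval_eq_eval]; rfl

theorem derA_mul (h : Good S γ q) (a b : Base S) : derA h (a * b) = a * derA h b + pointA h b • derA h a := by
  obtain ⟨f, rfl⟩ := Ideal.Quotient.mk_surjective a
  obtain ⟨g, rfl⟩ := Ideal.Quotient.mk_surjective b
  rw [← map_mul, derA_mk, derA_mk, derA_mk, pointA_mk, der_mul]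

theorem derA_one (h : Good S γ q) : derA h 1 = 0 := by
  rw [← map_one (Ideal.Quotient.mk (Ideal.span S)), derA_mk, ← C_1, der_C]

/-- The module underlying the extended algebra. -/
abbrev Mdl (S : Set (MvPolynomial σ R)) : Type u := Base S × Polynomial R

/-- Multiplication by the new generator. -/
noncomputable def T (h : Good S γ q) : Module.End R (Mdl S) :=
  LinearMap.prod ((derA h).comp (LinearMap.fst R _ _))
    ((Polynomial.CAlgHom (R := R)).toLinearMap.comp ((pointA h).toLinearMap.comp (LinearMap.fst R _ _)) +
      (LinearMap.mulLeft R (Polynomial.X : Polynomial R)).comp (LinearMap.snd R _ _))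

theorem T_apply (h : Good S γ q) (a : Base S) (g : Polynomial R) :
    T h (a, g) = (derA h a, Polynomial.C (pointA h a) + Polynomial.X * g) := rfl

theorem aeval_T_apply (h : Good S γ q) (g g' : Polynomial R) :
    Polynomial.aeval (T h) g (0, g') = (0, g * g') := by
  induction g using Polynomial.induction_on' with
  | add p r hp hr => rw [map_add, LinearMap.add_apply, hp, hr, add_mul, Prod.mk_add_mk, add_zero]
  | monomial n c =>
    rw [Polynomial.aeval_monomial, Module.End.mul_apply, ← Polynomial.C_mul_X_pow_eq_monomial]
    induction n with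
    | zero => simp [Algebra.smul_def]
    | succ n ih =>
      rw [pow_succ', Module.End.mul_apply]
      have hn : ∀ N : ℕ, (T h ^ N) ((0 : Base S), g') = (0, Polynomial.X ^ N * g') := by
        intro N
        induction N with
        | zero => simp
        | succ N ihN =>
          rw [pow_succ', Module.End.mul_apply, ihN, T_apply, map_zero, map_zero, map_zero, zero_add, pow_succ',
            mul_assoc]
      rw [hn, T_apply, map_zero, map_zero, map_zero, zero_add, Module.algebraMap_end_apply, Prod.smul_mk,
        smul_zero, Algebra.smul_def, Polynomial.algebraMap_eq, pow_succ']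
      ring_nf

/-- Multiplication by an element of the algebra. -/
noncomputable def α (h : Good S γ q) (a : Base S) : Module.End R (Mdl S) :=
  (LinearMap.inl R _ _).comp ((LinearMap.mulLeft R a).comp (LinearMap.fst R _ _)) +
    ((LinearMap.applyₗ (T h (a, 0))).comp (Polynomial.aeval (T h)).toLinearMap).comp (LinearMap.snd R _ _)

theorem α_apply (h : Good S γ q) (a b : Base S) (g : Polynomial R) :
    α h a (b, g) = (a * b, 0) + Polynomial.aeval (T h) g (T h (a, 0)) := rfl

theorem α_fst (h : Good S γ q) (a b : Base S) : α h a (b, 0) = (a * b, 0) := by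
  rw [α_apply, map_zero, LinearMap.zero_apply, add_zero]

theorem α_comm_T (h : Good S γ q) (a : Base S) : α h a * T h = T h * α h a := by
  apply LinearMap.ext
  rintro ⟨b, g⟩
  rw [Module.End.mul_apply, Module.End.mul_apply, T_apply, α_apply, α_apply, map_add (T h)]
  rw [map_add (Polynomial.aeval (T h)), Polynomial.aeval_C, map_mul, Polynomial.aeval_X, LinearMap.add_apply,
    Module.End.mul_apply, Module.algebraMap_end_apply, ← add_assoc]
  congr 1
  rw [T_apply, T_apply, derA_mul, Prod.smul_mk, Prod.mk_add_mk, map_mul, Polynomial.C_mul, mul_zero, add_zero,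
    zero_add, add_zero, Polynomial.smul_eq_C_mul, mul_comm (Polynomial.C (pointA h a))]

theorem commute_aeval_T (h : Good S γ q) (a : Base S) (g : Polynomial R) :
    α h a * Polynomial.aeval (T h) g = Polynomial.aeval (T h) g * α h a := by
  induction g using Polynomial.induction_on with
  | C r => rw [Polynomial.aeval_C]; exact (Algebra.commutes r _).symm
  | add p r hp hr => rw [map_add, mul_add, add_mul, hp, hr]
  | monomial n r hn =>
    rw [pow_succ, ← mul_assoc, map_mul, Polynomial.aeval_X, ← mul_assoc, hn, mul_assoc, α_comm_T, mul_assoc]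

theorem α_mul (h : Good S γ q) (a b : Base S) : α h (a * b) = α h a * α h b := by
  apply LinearMap.ext
  rintro ⟨c, g⟩
  rw [Module.End.mul_apply, α_apply, α_apply h b, map_add, α_fst, mul_assoc]
  congr 1
  rw [← Module.End.mul_apply (α h a), commute_aeval_T, Module.End.mul_apply, ← Module.End.mul_apply (α h a),
    α_comm_T, Module.End.mul_apply, α_fst]

theorem α_one (h : Good S γ q) : α h 1 = 1 := by
  apply LinearMap.ext
  rintro ⟨c, g⟩
  rw [α_apply, one_mul, T_apply, derA_one, map_one, map_one, mul_zero, add_zero, aeval_T_apply, mul_one,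
    Prod.mk_add_mk, add_zero, zero_add]
  rfl

theorem α_add (h : Good S γ q) (a b : Base S) : α h (a + b) = α h a + α h b := by
  apply LinearMap.ext
  rintro ⟨c, g⟩
  rw [LinearMap.add_apply, α_apply, α_apply, α_apply, add_mul,
    show ((a + b, 0) : Mdl S) = (a, 0) + (b, 0) by simp, map_add, map_add,
    show ((a * c + b * c, 0) : Mdl S) = (a * c, 0) + (b * c, 0) by simp]
  abel

theorem α_algebraMap (h : Good S γ q) (r : R) : α h (algebraMap R _ r) = algebraMap R _ r := by
  have h1 : algebraMap R (Base S) r = r • (1 : Base S) := Algebra.algebraMap_eq_smul_one r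
  apply LinearMap.ext
  rintro ⟨c, g⟩
  rw [h1, α_apply, show ((r • (1 : Base S), 0) : Mdl S) = r • ((1 : Base S), 0) by simp, map_smul, map_smul,
    Module.algebraMap_end_apply, smul_mul_assoc]
  have := congrArg (fun e => r • e) (LinearMap.congr_fun (α_one h) (c, g))
  simp only [α_apply, smul_add, Module.End.one_apply] at this
  rw [← this]
  simp

variable (S γ q) in
/-- The relations of the extended algebra. -/
def extRel : Set (MvPolynomial (Option σ) R) :=
  (rename some '' S) ∪ Set.range fun y => X none * X (some y) - (C (γ y) * X none + rename some (q y))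

/-- The representation of the extended polynomial ring. -/
noncomputable def rep (h : Good S γ q) : MvPolynomial (Option σ) R →ₐ[R] Module.End R (Mdl S) :=
  letI := Algebra.adjoinCommRingOfComm R (s := insert (T h) (Set.range (α h)))
    (by
      rintro _ (rfl | ⟨a, rfl⟩) _ (rfl | ⟨b, rfl⟩)
      · rfl
      · exact (α_comm_T h b).symm
      · exact α_comm_T h a
      · rw [← α_mul, ← α_mul, mul_comm])
  (Algebra.adjoin R (insert (T h) (Set.range (α h)))).val.comp
    (aeval fun o => o.elim
      (⟨T h, Algebra.subset_adjoin (Set.mem_insert _ _)⟩ : Algebra.adjoin R (insert (T h) (Set.range (α h))))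
      fun y => ⟨α h (Ideal.Quotient.mk _ (X y)), Algebra.subset_adjoin (Set.mem_insert_of_mem _ ⟨_, rfl⟩)⟩)

theorem rep_rename (h : Good S γ q) (f : MvPolynomial σ R) :
    rep h (rename some f) = α h (Ideal.Quotient.mk _ f) := by
  induction f using MvPolynomial.induction_on with
  | C r => rw [rename_C]; exact ((rep h).commutes r).trans (α_algebraMap h r).symm
  | add f g hf hg => rw [map_add, map_add, hf, hg, map_add, α_add]
  | mul_X f y hf =>
    rw [map_mul, map_mul, hf, rename_X, map_mul, α_mul]
    congr 1
    simp [rep]

theorem rep_eq_zero (h : Good S γ q) {f : MvPolynomial (Option σ) R} (hf : f ∈ Ideal.span (extRel S γ q)) :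
    rep h f ((1 : Base S), 0) = 0 := by
  induction hf using Submodule.span_induction with
  | mem f hf =>
    rcases hf with ⟨g, hg, rfl⟩ | ⟨y, rfl⟩
    · rw [rep_rename, α_fst, Ideal.Quotient.eq_zero_iff_mem.2 (Ideal.subset_span hg), zero_mul, Prod.mk_zero_zero]
    · have hX : rep h (X none) = T h := by simp [rep]
      show rep h (X none * X (some y) - (C (γ y) * X none + rename some (q y))) _ = 0
      rw [map_sub, map_add, map_mul, map_mul, ← rename_X (R := R) some y, rep_rename, rep_rename, hX,
        show rep h (C (γ y)) = algebraMap R _ (γ y) from (rep h).commutes _]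
      simp only [LinearMap.sub_apply, LinearMap.add_apply, Module.End.mul_apply, Module.algebraMap_end_apply,
        α_fst, T_apply, derA_mk, derA_one, der_X, pointA_mk, eval_X, mul_one, map_one, mul_zero, add_zero,
        Prod.smul_mk, smul_zero, Prod.mk_add_mk, zero_add, Polynomial.smul_eq_C_mul, sub_self]
  | zero => rw [map_zero, LinearMap.zero_apply]
  | add f g _ _ hf hg => rw [map_add, LinearMap.add_apply, hf, hg, add_zero]
  | smul r f _ hf => rw [smul_eq_mul, map_mul, Module.End.mul_apply, hf, map_zero]

variable (S γ q) in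
/-- The extended algebra. -/
abbrev Ext : Type u := MvPolynomial (Option σ) R ⧸ Ideal.span (extRel S γ q)

variable (S γ q) in
/-- The inclusion. -/
noncomputable def incl : Base S →ₐ[R] Ext S γ q :=
  Ideal.Quotient.liftₐ (Ideal.span S) ((Ideal.Quotient.mkₐ R _).comp (rename some)) fun f hf => by
    rw [AlgHom.comp_apply, Ideal.Quotient.mkₐ_eq_mk, Ideal.Quotient.eq_zero_iff_mem]
    have := Ideal.mem_map_of_mem (rename (R := R) some) hf
    rw [Ideal.map_span] at this
    exact Ideal.span_mono (fun x hx => Or.inl hx) this

variable (S γ q) in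
/-- The new generator. -/
noncomputable def gen : Ext S γ q := Ideal.Quotient.mk _ (X none)

variable (S γ q) in
/-- The comparison. -/
noncomputable def toExt : Mdl S →ₗ[R] Ext S γ q :=
  (incl S γ q).toLinearMap.comp (LinearMap.fst R _ _) +
    ((LinearMap.mulLeft R (gen S γ q)).comp (Polynomial.aeval (gen S γ q)).toLinearMap).comp (LinearMap.snd R _ _)

theorem toExt_apply (a : Base S) (g : Polynomial R) :
    toExt S γ q (a, g) = incl S γ q a + gen S γ q * Polynomial.aeval (gen S γ q) g := rfl

theorem gen_mul_incl (h : Good S γ q) (f : MvPolynomial σ R) :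
    gen S γ q * incl S γ q (Ideal.Quotient.mk _ f) =
      incl S γ q (der S γ q h.compat f) + eval γ f • gen S γ q := by
  induction f using MvPolynomial.induction_on with
  | C r =>
    rw [der_C, map_zero, zero_add, eval_C, smul_eq_mk, mul_comm]
    exact congrArg (· * gen S γ q) ((incl S γ q).commutes r)
  | add f g hf hg => rw [map_add, map_add, mul_add, hf, hg, der_add, map_add, map_add, add_smul]; abel
  | mul_X f y hf =>
    have hy : gen S γ q * incl S γ q (Ideal.Quotient.mk _ (X y)) =
        incl S γ q (Ideal.Quotient.mk _ (q y)) + γ y • gen S γ q := by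
      have h1 : gen S γ q * Ideal.Quotient.mk (Ideal.span (extRel S γ q)) (rename some (X y)) =
          Ideal.Quotient.mk (Ideal.span (extRel S γ q)) (C (γ y) * X none + rename some (q y)) := by
        rw [gen, ← map_mul, rename_X]
        exact Ideal.Quotient.eq.2 (Ideal.subset_span (Or.inr ⟨y, rfl⟩))
      refine h1.trans ?_
      rw [map_add, map_mul, add_comm, smul_eq_mk]
      rfl
    rw [map_mul, map_mul, ← mul_assoc, hf, mul_comm f (X y), der_mul, der_X, map_add, map_smul, map_mul, add_mul,
      smul_mul_assoc, hy, smul_add, smul_smul, map_mul, eval_X]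
    rw [mul_comm ((incl S γ q) (der S γ q _ f))]
    simp only [mul_comm (eval γ f) (γ y)]
    abel

theorem gen_mul_toExt (h : Good S γ q) (w : Mdl S) : gen S γ q * toExt S γ q w = toExt S γ q (T h w) := by
  obtain ⟨a, g⟩ := w
  obtain ⟨f, rfl⟩ := Ideal.Quotient.mk_surjective a
  rw [toExt_apply, mul_add, gen_mul_incl h, T_apply, toExt_apply, derA_mk, pointA_mk, map_add,
    Polynomial.aeval_C, map_mul, Polynomial.aeval_X, smul_eq_mk]
  rw [show algebraMap R (Ext S γ q) (eval γ f) = Ideal.Quotient.mk _ (C (eval γ f)) from rfl]
  ring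

theorem aeval_mul_toExt (h : Good S γ q) (g : Polynomial R) : ∀ w : Mdl S,
    Polynomial.aeval (gen S γ q) g * toExt S γ q w = toExt S γ q (Polynomial.aeval (T h) g w) := by
  induction g using Polynomial.induction_on with
  | C r =>
    intro w
    rw [Polynomial.aeval_C, Polynomial.aeval_C, Module.algebraMap_end_apply, map_smul, smul_eq_mk]
    rfl
  | add p r hp hr => intro w; rw [map_add, map_add, add_mul, hp, hr, LinearMap.add_apply, map_add]
  | monomial n r hn =>
    intro w
    rw [pow_succ, ← mul_assoc, map_mul, map_mul (Polynomial.aeval (T h)), Polynomial.aeval_X, Polynomial.aeval_X,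
      mul_assoc, gen_mul_toExt h, hn, Module.End.mul_apply]

theorem incl_mul_toExt (h : Good S γ q) (a : Base S) (w : Mdl S) :
    incl S γ q a * toExt S γ q w = toExt S γ q (α h a w) := by
  obtain ⟨b, g⟩ := w
  rw [α_apply, map_add (toExt S γ q), ← aeval_mul_toExt h, ← gen_mul_toExt h, toExt_apply, toExt_apply,
    toExt_apply, map_zero, mul_zero, add_zero, add_zero, map_mul]
  ring

theorem toExt_surjective (h : Good S γ q) : Function.Surjective (toExt S γ q) := by
  intro z
  obtain ⟨f, rfl⟩ := Ideal.Quotient.mk_surjective z
  suffices H : ∀ w, ∃ w', toExt S γ q w' = Ideal.Quotient.mk _ f * toExt S γ q w by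
    obtain ⟨w', hw'⟩ := H (1, 0)
    refine ⟨w', hw'.trans ?_⟩
    rw [toExt_apply, map_one, map_zero, mul_zero, add_zero, mul_one]
  induction f using MvPolynomial.induction_on with
  | C r =>
    intro w
    exact ⟨r • w, by rw [map_smul, smul_eq_mk]⟩
  | add f g hf hg =>
    intro w
    obtain ⟨a, ha⟩ := hf w
    obtain ⟨b, hb⟩ := hg w
    exact ⟨a + b, by rw [map_add, ha, hb, map_add, add_mul]⟩
  | mul_X f o hf =>
    intro w
    rw [map_mul, mul_assoc]
    cases o with
    | none => rw [show (Ideal.Quotient.mk _ (X none) : Ext S γ q) = gen S γ q from rfl, gen_mul_toExt h]; exact hf _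
    | some y =>
      rw [show (Ideal.Quotient.mk _ (X (some y)) : Ext S γ q) = incl S γ q (Ideal.Quotient.mk _ (X y)) from
        (congrArg (Ideal.Quotient.mk _) (rename_X some y)).symm, incl_mul_toExt h]
      exact hf _

theorem toExt_injective (h : Good S γ q) : Function.Injective (toExt S γ q) := by
  let θ : Ext S γ q →ₗ[R] Mdl S :=
    (Submodule.liftQ ((Ideal.span (extRel S γ q)).restrictScalars R)
      ((LinearMap.applyₗ ((1 : Base S), (0 : Polynomial R))).comp (rep h).toLinearMap)
      fun f hf => rep_eq_zero h hf).comp (Submodule.Quotient.restrictScalarsEquiv R _).symm.toLinearMap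
  have hθ : ∀ f, θ (Ideal.Quotient.mk _ f) = rep h f ((1 : Base S), 0) := fun f => rfl
  refine Function.LeftInverse.injective (g := θ) ?_
  rintro ⟨a, g⟩
  obtain ⟨f, rfl⟩ := Ideal.Quotient.mk_surjective a
  have hg : gen S γ q * Polynomial.aeval (gen S γ q) g =
      Ideal.Quotient.mk _ (X none * Polynomial.aeval (X none) g) := by
    rw [map_mul]
    congr 1
    exact (Polynomial.aeval_algHom_apply (Ideal.Quotient.mkₐ R (Ideal.span (extRel S γ q))) (X none) g)
  rw [toExt_apply, map_add, hg, show incl S γ q (Ideal.Quotient.mk _ f) = Ideal.Quotient.mk _ (rename some f) from rfl,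
    hθ, hθ, rep_rename, α_fst, map_mul, ← Polynomial.aeval_algHom_apply, show rep h (X none) = T h by simp [rep],
    Module.End.mul_apply, mul_one]
  have hc : T h * Polynomial.aeval (T h) g = Polynomial.aeval (T h) g * T h := by
    have := congrArg (Polynomial.aeval (T h)) (mul_comm Polynomial.X g)
    rwa [map_mul, map_mul, Polynomial.aeval_X] at this
  rw [← Module.End.mul_apply, hc, Module.End.mul_apply, T_apply, derA_one, map_one, map_one, mul_zero, add_zero,
    aeval_T_apply, mul_one, Prod.mk_add_mk, add_zero, zero_add]

/-- The extended algebra as a module. -/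
noncomputable def extEquiv (h : Good S γ q) : Mdl S ≃ₗ[R] Ext S γ q :=
  LinearEquiv.ofBijective (toExt S γ q) ⟨toExt_injective h, toExt_surjective h⟩

end Groth.Agent.CurveBasis
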