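import Mathlib
import Groth.Prelude.Def_W4c5m1nsnscurvesC
import Groth.Agent.S18251
import Groth.Agent.CurveBasis.Attach

/-!
# The monomial basis of the algebra of an affine curve
-/

set_option autoImplicit false
set_option backward.isDefEq.respectTransparency false
set_option linter.unusedSimpArgs false
universe u

namespace Groth.Agent.CurveBasis

open MvPolynomial W4c5m1nsnscurves

variable {R : Type u} [CommRing R] {m : ℕ}

/-- Parameters of a curve. -/
structure Par (R : Type u) (m : ℕ) where
  A : R
  C0 : R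
  CB : R
  D : R
  g : Fin m → R
  h : Fin m → R
  e : Fin m → Fin m → R

namespace Par

/-- The slope. -/
def k (P : Par R m) (i : Fin m) : R := P.A + P.g i + P.h i

/-- The constant of the cubic seen from a point. -/
def dval (P : Par R m) (i : Fin m) : R := P.g i * P.k i * P.h i - P.g i * P.CB - P.h i * P.C0 - P.A * P.C0

/-- Forgetting the last point. -/
def init (P : Par R (m + 1)) : Par R m :=
  ⟨P.A, P.C0, P.CB, P.D, fun i => P.g i.castSucc, fun i => P.h i.castSucc, fun i j => P.e i.castSucc j.castSucc⟩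

theorem init_A (P : Par R (m + 1)) : P.init.A = P.A := rfl
theorem init_C0 (P : Par R (m + 1)) : P.init.C0 = P.C0 := rfl
theorem init_CB (P : Par R (m + 1)) : P.init.CB = P.CB := rfl
theorem init_D (P : Par R (m + 1)) : P.init.D = P.D := rfl
theorem init_g (P : Par R (m + 1)) (i : Fin m) : P.init.g i = P.g i.castSucc := rfl
theorem init_h (P : Par R (m + 1)) (i : Fin m) : P.init.h i = P.h i.castSucc := rfl
theorem init_e (P : Par R (m + 1)) (i j : Fin m) : P.init.e i j = P.e i.castSucc j.castSucc := rfl

/-- The equations on the parameters. -/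
structure Valid (P : Par R m) : Prop where
  dv : ∀ i, P.D = P.dval i
  lin : ∀ i j, i ≠ j → P.e i j + P.e j i = P.A + P.g i + P.h i + P.g j + P.h j
  cEq : ∀ i j, i ≠ j → P.C0 = P.e j i * P.g j + P.e i j * P.g i - P.g i * P.g j
  bEq : ∀ i j, i ≠ j → P.CB = P.e j i * P.h i + P.e i j * P.h j - P.h i * P.h j
  tri : ∀ i j l, i ≠ j → j ≠ l → i ≠ l →
    P.e i j * P.e j l + P.e j i * P.e i l - P.e i l * P.e j l + (P.A + P.g l + P.h l) * P.g l = P.C0

theorem Valid.init {P : Par R (m + 1)} (h : P.Valid) : P.init.Valid where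
  dv i := h.dv i.castSucc
  lin i j hij := h.lin _ _ fun e => hij (Fin.castSucc_injective _ e)
  cEq i j hij := h.cEq _ _ fun e => hij (Fin.castSucc_injective _ e)
  bEq i j hij := h.bEq _ _ fun e => hij (Fin.castSucc_injective _ e)
  tri i j l h1 h2 h3 := h.tri _ _ _ (fun e => h1 (Fin.castSucc_injective _ e))
    (fun e => h2 (Fin.castSucc_injective _ e)) (fun e => h3 (Fin.castSucc_injective _ e))

/-- The cubic. -/
noncomputable def cubic (P : Par R m) : MvPolynomial (CVar m) R :=
  X .x2 * (X .x3 * X .x3) - X .x2 * X .x2 * X .x3 -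
    (C P.A * (X .x2 * X .x3) + C (P.CB - P.C0) * X .x2 + C P.C0 * X .x3 + C P.D)

/-- The relation of the first kind. -/
noncomputable def rel1 (P : Par R m) (i : Fin m) : MvPolynomial (CVar m) R :=
  X .x2 * X (.xi i) - (X .x2 * X .x3 + C (P.g i) * X (.xi i) + C (P.h i) * X .x2 - C P.C0)

/-- The relation of the second kind. -/
noncomputable def rel2 (P : Par R m) (i : Fin m) : MvPolynomial (CVar m) R :=
  X .x3 * X (.xi i) - (X .x2 * X .x3 + C (P.k i) * (X (.xi i) - C (P.h i)) + C P.CB - C P.C0)

/-- The relation of the third kind. -/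
noncomputable def rel3 (P : Par R m) (i j : Fin m) : MvPolynomial (CVar m) R :=
  X (.xi i) * X (.xi j) - (X .x2 * X .x3 + C (P.e i j) * X (.xi j) + C (P.e j i) * X (.xi i) - C P.C0)

/-- All relations. -/
noncomputable def rels (P : Par R m) : Set (MvPolynomial (CVar m) R) :=
  {P.cubic} ∪ Set.range P.rel1 ∪ Set.range P.rel2 ∪ Set.range (fun q : DPair m => P.rel3 q.1.1 q.1.2)

theorem cubic_mem (P : Par R m) : P.cubic ∈ P.rels := Or.inl (Or.inl (Or.inl rfl))
theorem rel1_mem (P : Par R m) (i : Fin m) : P.rel1 i ∈ P.rels := Or.inl (Or.inl (Or.inr ⟨i, rfl⟩))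
theorem rel2_mem (P : Par R m) (i : Fin m) : P.rel2 i ∈ P.rels := Or.inl (Or.inr ⟨i, rfl⟩)
theorem rel3_mem (P : Par R m) {i j : Fin m} (hij : i ≠ j) : P.rel3 i j ∈ P.rels := Or.inr ⟨⟨(i, j), hij⟩, rfl⟩

/-- The point at infinity of the last branch. -/
def pt (P : Par R (m + 1)) : CVar m → R
  | .x2 => P.g (Fin.last m)
  | .x3 => P.k (Fin.last m)
  | .xi j => P.e j.castSucc (Fin.last m)

/-- The values at the last branch. -/
noncomputable def val (P : Par R (m + 1)) : CVar m → MvPolynomial (CVar m) R
  | .x2 => X .x2 * X .x3 + C (P.h (Fin.last m)) * X .x2 - C P.C0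
  | .x3 => X .x2 * X .x3 + C (P.CB - P.C0 - P.k (Fin.last m) * P.h (Fin.last m))
  | .xi j => X .x2 * X .x3 + C (P.e (Fin.last m) j.castSucc) * X (.xi j) - C P.C0

set_option maxHeartbeats 3200000 in
theorem good (P : Par R (m + 1)) (hP : P.Valid) : Good P.init.rels P.pt P.val := by
  classical
  let I := Ideal.span P.init.rels
  let mk := Ideal.Quotient.mk I
  let c : R →+* MvPolynomial (CVar m) R ⧸ I := mk.comp C
  have hc : ∀ r, Ideal.Quotient.mk I (C r) = c r := fun r => rfl
  have hF := Ideal.Quotient.eq_zero_iff_mem.2 (Ideal.subset_span (α := MvPolynomial (CVar m) R) P.init.cubic_mem)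
  have h1 := fun j => Ideal.Quotient.eq_zero_iff_mem.2
    (Ideal.subset_span (α := MvPolynomial (CVar m) R) (P.init.rel1_mem j))
  have h2 := fun j => Ideal.Quotient.eq_zero_iff_mem.2
    (Ideal.subset_span (α := MvPolynomial (CVar m) R) (P.init.rel2_mem j))
  have h3 := fun j l (hjl : j ≠ l) => Ideal.Quotient.eq_zero_iff_mem.2
    (Ideal.subset_span (α := MvPolynomial (CVar m) R) (P.init.rel3_mem (i := j) (j := l) hjl))
  simp only [cubic, rel1, rel2, rel3, init_A, init_C0, init_CB, init_D, init_g, init_h, init_e, k, map_sub, map_add, map_mul, hc] at hF h1 h2 h3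
  change ∀ j, _ at h1
  have hn : ∀ j : Fin m, j.castSucc ≠ Fin.last m := fun j => (Fin.castSucc_lt_last j).ne
  have hd := congrArg c (hP.dv (Fin.last m))
  have hdj := fun j : Fin m => congrArg c (hP.dv j.castSucc)
  have hL := fun j : Fin m => congrArg c (hP.lin j.castSucc (Fin.last m) (hn j))
  have hC := fun j : Fin m => congrArg c (hP.cEq j.castSucc (Fin.last m) (hn j))
  have hB := fun j : Fin m => congrArg c (hP.bEq j.castSucc (Fin.last m) (hn j))
  have hL' := fun j l : Fin m => fun hjl : j ≠ l =>
    congrArg c (hP.lin j.castSucc l.castSucc fun e => hjl (Fin.castSucc_injective _ e))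
  have hT := fun j l : Fin m => fun hjl : j ≠ l => congrArg c (hP.tri (Fin.last m) j.castSucc l.castSucc
    (hn j).symm (fun e => hjl (Fin.castSucc_injective _ e)) (hn l).symm)
  simp only [dval, k, map_sub, map_add, map_mul] at hd hdj hL hC hB hL' hT
  generalize hA : c P.A = a at *
  generalize hC0 : c P.C0 = c0 at *
  generalize hCB : c P.CB = cb at *
  generalize hD : c P.D = d at *
  generalize hg : c (P.g (Fin.last m)) = g at *
  generalize hh : c (P.h (Fin.last m)) = h at *
  let x := mk (X CVar.x2)
  let y := mk (X CVar.x3)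
  let z := fun j : Fin m => mk (X (CVar.xi j))
  have hcompat : Compat P.init.rels P.pt P.val := by
    have hxy : mk ((X CVar.x2 - C (P.pt .x2)) * P.val .x3) = mk ((X CVar.x3 - C (P.pt .x3)) * P.val .x2) := by
      simp only [mk, pt, val, k, map_sub, map_add, map_mul, hc, hA, hC0, hCB, hg, hh]
      linear_combination -hF - hd
    have hxz : ∀ j, mk ((X CVar.x2 - C (P.pt .x2)) * P.val (.xi j)) =
        mk ((X (CVar.xi j) - C (P.pt (.xi j))) * P.val .x2) := by
      intro j
      simp only [mk, pt, val, k, map_sub, map_add, map_mul, hc, hA, hC0, hCB, hg, hh]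
      linear_combination (c (P.e (Fin.last m) j.castSucc) - h - y) * h1 j - c (P.g j.castSucc) * h2 j - hF +
        (x * y + c (P.g j.castSucc) * z j - c0) * hL j + z j * hC j - x * hB j - hdj j
    have hyz : ∀ j, mk ((X CVar.x3 - C (P.pt .x3)) * P.val (.xi j)) =
        mk ((X (CVar.xi j) - C (P.pt (.xi j))) * P.val .x3) := by
      intro j
      simp only [mk, pt, val, k, map_sub, map_add, map_mul, hc, hA, hC0, hCB, hg, hh]
      linear_combination (c (P.e (Fin.last m) j.castSucc) - c (P.g j.castSucc)) * h2 j - y * h1 j +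
        (x * y) * hL j + z j * ((c (P.g j.castSucc) - h) * hL j + hC j - hB j) + hd - hdj j +
        (h * (c (P.h j.castSucc) - g) + cb - c0) * hL j - h * hC j +
        (a + h + c (P.g j.castSucc) + c (P.h j.castSucc)) * hB j
    have hzt : ∀ j l, j ≠ l → mk ((X (CVar.xi j) - C (P.pt (.xi j))) * P.val (.xi l)) =
        mk ((X (CVar.xi l) - C (P.pt (.xi l))) * P.val (.xi j)) := by
      intro j l hjl
      simp only [mk, pt, val, k, map_sub, map_add, map_mul, hc, hA, hC0, hCB, hg, hh]
      linear_combination (c (P.e (Fin.last m) l.castSucc) - c (P.e (Fin.last m) j.castSucc)) * h3 j l hjl +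
        y * h1 j + c (P.g j.castSucc) * h2 j - y * h1 l - c (P.g l.castSucc) * h2 l +
        (x * y - c0) * (hL l - hL j) + z j * hT l j hjl.symm - z l * hT j l hjl + hdj j - hdj l
    intro p r
    cases p <;> cases r
    · rfl
    · exact hxy
    · exact hxz _
    · exact hxy.symm
    · rfl
    · exact hyz _
    · exact (hxz _).symm
    · exact (hyz _).symm
    · rename_i i j
      rcases eq_or_ne i j with rfl | hij
      · rfl
      · exact hzt i j hij
  refine ⟨hcompat, ?_, ?_⟩
  · rintro f (((rfl | ⟨j, rfl⟩) | ⟨j, rfl⟩) | ⟨⟨⟨j, l⟩, hjl⟩, rfl⟩)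
    · have := hP.dv (Fin.last m)
      simp only [dval, k] at this
      simp only [cubic, init_A, init_C0, init_CB, init_D, init_g, init_h, init_e, pt, k, eval_sub, eval_add, eval_mul, eval_X, eval_C, map_sub, map_add, map_mul]
      linear_combination -this
    · have e1 := hP.lin _ _ (hn j)
      have e2 := hP.cEq _ _ (hn j)
      simp only [rel1, init_A, init_C0, init_CB, init_D, init_g, init_h, init_e, pt, k, eval_X, eval_C, map_sub, map_add, map_mul]
      linear_combination P.g (Fin.last m) * e1 + e2
    · have e1 := hP.lin _ _ (hn j)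
      have e2 := hP.cEq _ _ (hn j)
      have e3 := hP.bEq _ _ (hn j)
      simp only [rel2, init_A, init_C0, init_CB, init_D, init_g, init_h, init_e, pt, k, eval_X, eval_C, map_sub, map_add, map_mul]
      linear_combination (P.g (Fin.last m) - P.h j.castSucc) * e1 + e2 - e3
    · have e1 := hP.lin j.castSucc l.castSucc fun e => hjl (Fin.castSucc_injective _ e)
      have e2 := hP.tri j.castSucc l.castSucc (Fin.last m) (fun e => hjl (Fin.castSucc_injective _ e)) (hn l) (hn j)
      simp only [rel3, init_A, init_C0, init_CB, init_D, init_g, init_h, init_e, pt, k, eval_X, eval_C, map_sub, map_add, map_mul]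
      linear_combination -e2
  · rintro f (((rfl | ⟨j, rfl⟩) | ⟨j, rfl⟩) | ⟨⟨⟨j, l⟩, hjl⟩, rfl⟩)
    · simp only [cubic, init_A, init_C0, init_CB, init_D, init_g, init_h, init_e, k, der_sub, der_add, der_mul, der_C, der_X, smul_eq_mk, pt, val, eval_X, eval_C,
        map_sub, map_add, map_mul, hc, hA, hC0, hCB, hD, hg, hh, I]
      linear_combination x * hF + x * hd
    · simp only [rel1, init_A, init_C0, init_CB, init_D, init_g, init_h, init_e, k, der_sub, der_add, der_mul, der_C, der_X, smul_eq_mk, pt, val, eval_X, eval_C,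
        map_sub, map_add, map_mul, hc, hA, hC0, hCB, hD, hg, hh, I]
      linear_combination c (P.e (Fin.last m) j.castSucc) * h1 j + (x * y - c0) * hL j - x * hB j
    · simp only [rel2, init_A, init_C0, init_CB, init_D, init_g, init_h, init_e, k, der_sub, der_add, der_mul, der_C, der_X, smul_eq_mk, pt, val, eval_X, eval_C,
        map_sub, map_add, map_mul, hc, hA, hC0, hCB, hD, hg, hh, I]
      linear_combination c (P.e (Fin.last m) j.castSucc) * h2 j + hF + (x * y) * hL j + hd +
        (h * (c (P.h j.castSucc) - g) + cb - c0) * hL j - h * hC j +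
        (a + h + c (P.g j.castSucc) + c (P.h j.castSucc)) * hB j
    · simp only [rel3, init_A, init_C0, init_CB, init_D, init_g, init_h, init_e, k, der_sub, der_add, der_mul, der_C, der_X, smul_eq_mk, pt, val, eval_X, eval_C,
        map_sub, map_add, map_mul, hc, hA, hC0, hCB, hD, hg, hh, I]
      linear_combination c (P.e (Fin.last m) l.castSucc) * h3 j l hjl + y * h1 j + c (P.g j.castSucc) * h2 j + hF +
        (x * y - c0) * (hL l - hL' j l hjl) + z j * hT l j (Ne.symm hjl) + hdj j

end Par

end Groth.Agent.CurveBasis
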