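import Mathlib
import Groth.Agent.CurveBasis.Curve

/-!
# Induction on the number of marked points
-/

set_option autoImplicit false
set_option backward.isDefEq.respectTransparency false
set_option linter.unusedSimpArgs false
universe u

namespace Groth.Agent.CurveBasis

open MvPolynomial W4c5m1nsnscurves

variable {R : Type u} [CommRing R] {m : ℕ}

/-- The index of the monomials. -/
abbrev Idx (m : ℕ) : Type := Option (ℕ ⊕ (CVar m × ℕ))

/-- The monomials. -/
noncomputable def mon : Idx m → MvPolynomial (CVar m) R
  | none => 1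
  | some (Sum.inl k) => X .x2 ^ (k + 1) * X .x3
  | some (Sum.inr (y, k)) => X y ^ (k + 1)

/-- Variables before the last one. -/
def emb : CVar m → CVar (m + 1)
  | .x2 => .x2
  | .x3 => .x3
  | .xi j => .xi j.castSucc

/-- The variables of `m + 1` points. -/
noncomputable def varEquiv (m : ℕ) : Option (CVar m) ≃ CVar (m + 1) :=
  Equiv.ofBijective (fun o => o.elim (CVar.xi (Fin.last m)) emb) ⟨by
    rintro (_ | (_ | _ | a)) (_ | (_ | _ | b)) h <;> simp [emb] at h ⊢
    all_goals first
      | exact h
      | exact absurd h.symm (Fin.castSucc_lt_last _).ne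
      | exact absurd h (Fin.castSucc_lt_last _).ne,
    fun y => by
      cases y with
      | x2 => exact ⟨some .x2, rfl⟩
      | x3 => exact ⟨some .x3, rfl⟩
      | xi i =>
        induction i using Fin.lastCases with
        | last => exact ⟨none, rfl⟩
        | cast i => exact ⟨some (.xi i), rfl⟩⟩

theorem varEquiv_none : varEquiv m none = CVar.xi (Fin.last m) := rfl
theorem varEquiv_some (y : CVar m) : varEquiv m (some y) = emb y := rfl

/-- The variables of no points. -/
def twoEquiv : CVar 0 ≃ Fin 2 where
  toFun
    | .x2 => 0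
    | .x3 => 1
    | .xi i => i.elim0
  invFun := ![.x2, .x3]
  left_inv y := by
    cases y with
    | x2 => rfl
    | x3 => rfl
    | xi i => exact i.elim0
  right_inv i := by fin_cases i <;> rfl

/-- The index of `m + 1` points. -/
def idxFun (m : ℕ) : Idx m ⊕ ℕ → Idx (m + 1)
  | .inl none => none
  | .inl (some (.inl k)) => some (.inl k)
  | .inl (some (.inr (y, k))) => some (.inr (emb y, k))
  | .inr k => some (.inr (.xi (Fin.last m), k))

theorem idxFun_bijective (m : ℕ) : Function.Bijective (idxFun m) := by
  refine ⟨?_, ?_⟩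
  · rintro ((_ | (k | ⟨y, k⟩)) | k) ((_ | (l | ⟨z, l⟩)) | l) h <;> simp [idxFun] at h ⊢
    · exact h
    · exact ⟨Option.some_injective _ ((varEquiv m).injective (a₁ := some y) (a₂ := some z) h.1), h.2⟩
    · exact absurd ((varEquiv m).injective (a₁ := some y) (a₂ := none) h.1) nofun
    · exact absurd ((varEquiv m).injective (a₁ := some z) (a₂ := none) h.1.symm) nofun
    · exact h
  · rintro (_ | (k | ⟨y, k⟩))
    · exact ⟨.inl none, rfl⟩
    · exact ⟨.inl (some (.inl k)), rfl⟩
    · obtain ⟨o, rfl⟩ := (varEquiv m).surjective y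
      cases o with
      | none => exact ⟨.inr k, rfl⟩
      | some z => exact ⟨.inl (some (.inr (z, k))), rfl⟩

namespace Par

/-- The algebra of the curve. -/
abbrev Alg (P : Par R m) : Type u := MvPolynomial (CVar m) R ⧸ Ideal.span P.rels

theorem span_rels_succ (P : Par R (m + 1)) :
    Ideal.span P.rels = (Ideal.span (extRel P.init.rels P.pt P.val)).map
      ((renameEquiv R (varEquiv m) : MvPolynomial (Option (CVar m)) R ≃ₐ[R] MvPolynomial (CVar (m + 1)) R) :
        MvPolynomial (Option (CVar m)) R →+* MvPolynomial (CVar (m + 1)) R) := by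
  rw [Ideal.map_span]
  change Ideal.span P.rels = Ideal.span ((fun g => rename (varEquiv m) g) '' extRel P.init.rels P.pt P.val)
  have hr : ∀ f : MvPolynomial (CVar m) R, rename (varEquiv m) (rename some f) = rename emb f := fun f => by
    rw [rename_rename]; rfl
  have hval : ∀ y, rename (varEquiv m) (X none * X (some y) - (C (P.pt y) * X none + rename some (P.val y))) =
      match y with
      | .x2 => P.rel1 (Fin.last m)
      | .x3 => P.rel2 (Fin.last m)
      | .xi j => P.rel3 j.castSucc (Fin.last m) := by
    intro y
    rw [map_sub, map_add, map_mul, map_mul, hr, rename_X, rename_X, rename_C, varEquiv_none, varEquiv_some]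
    cases y <;>
    · simp only [pt, val, rel1, rel2, rel3, emb, k, map_sub, map_add, map_mul, rename_X, rename_C]
      ring
  refine le_antisymm (Ideal.span_le.2 ?_) (Ideal.span_le.2 ?_)
  · have hold : ∀ f ∈ P.init.rels, rename emb f ∈ Ideal.span
        ((fun g => rename (varEquiv m) g) '' extRel P.init.rels P.pt P.val) := fun f hf =>
      Ideal.subset_span ⟨rename some f, Or.inl ⟨f, hf, rfl⟩, hr f⟩
    have hnew : ∀ y, rename (varEquiv m) (X none * X (some y) - (C (P.pt y) * X none + rename some (P.val y))) ∈
        Ideal.span ((fun g => rename (varEquiv m) g) '' extRel P.init.rels P.pt P.val) := fun y =>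
      Ideal.subset_span ⟨_, Or.inr ⟨y, rfl⟩, rfl⟩
    rintro f (((rfl | ⟨i, rfl⟩) | ⟨i, rfl⟩) | ⟨⟨⟨i, l⟩, hil⟩, rfl⟩)
    · have := hold _ P.init.cubic_mem
      simpa only [cubic, init_A, init_C0, init_CB, init_D, map_sub, map_add, map_mul, rename_X, rename_C, emb,
        SetLike.mem_coe] using this
    · induction i using Fin.lastCases with
      | last => have := hnew .x2; rw [hval .x2] at this; exact this
      | cast j =>
        have := hold _ (P.init.rel1_mem j)
        simpa only [rel1, init_A, init_C0, init_CB, init_g, init_h, map_sub, map_add, map_mul, rename_X, rename_C,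
          emb, SetLike.mem_coe] using this
    · induction i using Fin.lastCases with
      | last => have := hnew .x3; rw [hval .x3] at this; exact this
      | cast j =>
        have := hold _ (P.init.rel2_mem j)
        simpa only [rel2, init_A, init_C0, init_CB, init_g, init_h, k, map_sub, map_add, map_mul, rename_X,
          rename_C, emb, SetLike.mem_coe] using this
    · have hsym : ∀ a b, P.rel3 a b = P.rel3 b a := fun a b => by simp only [rel3]; ring
      induction i using Fin.lastCases with
      | last =>
        induction l using Fin.lastCases with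
        | last => exact absurd rfl hil
        | cast j => show P.rel3 _ _ ∈ _; rw [hsym]; have := hnew (.xi j); rw [hval (.xi j)] at this; exact this
      | cast j =>
        induction l using Fin.lastCases with
        | last => have := hnew (.xi j); rw [hval (.xi j)] at this; exact this
        | cast l =>
          have := hold _ (P.init.rel3_mem (i := j) (j := l) fun e => hil (congrArg Fin.castSucc e))
          simpa only [rel3, init_A, init_C0, init_e, map_sub, map_add, map_mul, rename_X, rename_C, emb,
            SetLike.mem_coe] using this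
  · rintro _ ⟨_, (⟨f, hf, rfl⟩ | ⟨y, rfl⟩), rfl⟩
    · show rename (varEquiv m) (rename some f) ∈ Ideal.span P.rels
      rw [hr]
      rcases hf with (((rfl | ⟨i, rfl⟩) | ⟨i, rfl⟩) | ⟨⟨⟨i, l⟩, hil⟩, rfl⟩)
      · have := Ideal.subset_span (α := MvPolynomial (CVar (m + 1)) R) P.cubic_mem
        simpa only [cubic, init_A, init_C0, init_CB, init_D, map_sub, map_add, map_mul, rename_X, rename_C, emb,
          SetLike.mem_coe] using this
      · have := Ideal.subset_span (α := MvPolynomial (CVar (m + 1)) R) (P.rel1_mem i.castSucc)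
        simpa only [rel1, init_A, init_C0, init_CB, init_g, init_h, map_sub, map_add, map_mul, rename_X, rename_C,
          emb, SetLike.mem_coe] using this
      · have := Ideal.subset_span (α := MvPolynomial (CVar (m + 1)) R) (P.rel2_mem i.castSucc)
        simpa only [rel2, init_A, init_C0, init_CB, init_g, init_h, k, map_sub, map_add, map_mul, rename_X,
          rename_C, emb, SetLike.mem_coe] using this
      · have := Ideal.subset_span (α := MvPolynomial (CVar (m + 1)) R)
          (P.rel3_mem (i := i.castSucc) (j := l.castSucc) fun e => hil (Fin.castSucc_injective _ e))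
        simpa only [rel3, init_A, init_C0, init_e, map_sub, map_add, map_mul, rename_X, rename_C, emb,
          SetLike.mem_coe] using this
    · show rename (varEquiv m) _ ∈ Ideal.span P.rels
      rw [hval]
      cases y with
      | x2 => exact Ideal.subset_span (P.rel1_mem _)
      | x3 => exact Ideal.subset_span (P.rel2_mem _)
      | xi j => exact Ideal.subset_span (P.rel3_mem (Fin.castSucc_lt_last j).ne)

/-- The comparison with the extension. -/
noncomputable def extAlgEquiv (P : Par R (m + 1)) : Ext P.init.rels P.pt P.val ≃ₐ[R] P.Alg :=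
  Ideal.quotientEquivAlg _ _ (renameEquiv R (varEquiv m)) P.span_rels_succ

theorem extAlgEquiv_mk (P : Par R (m + 1)) (f : MvPolynomial (Option (CVar m)) R) :
    P.extAlgEquiv (Ideal.Quotient.mk _ f) = Ideal.Quotient.mk _ (rename (varEquiv m) f) := rfl

theorem span_rels_zero (P : Par R 0) :
    Ideal.span {X (0 : Fin 2) * X 1 ^ 2 - X 0 ^ 2 * X 1 -
        (C P.A * X 0 * X 1 + C (P.CB - P.C0) * X 0 + C P.C0 * X 1 + C P.D)} =
      (Ideal.span P.rels).map ((renameEquiv R twoEquiv : MvPolynomial (CVar 0) R ≃ₐ[R] MvPolynomial (Fin 2) R) :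
        MvPolynomial (CVar 0) R →+* MvPolynomial (Fin 2) R) := by
  have h : P.rels = {P.cubic} := by
    ext f
    refine ⟨?_, fun hf => hf ▸ P.cubic_mem⟩
    rintro (((rfl | ⟨i, rfl⟩) | ⟨i, rfl⟩) | ⟨⟨⟨i, l⟩, hil⟩, rfl⟩)
    · rfl
    · exact i.elim0
    · exact i.elim0
    · exact i.elim0
  rw [Ideal.map_span, h, Set.image_singleton]
  congr 2
  show _ = rename twoEquiv P.cubic
  simp only [cubic, map_sub, map_add, map_mul, rename_X, rename_C]
  rw [show twoEquiv CVar.x2 = 0 from rfl, show twoEquiv CVar.x3 = 1 from rfl]
  ring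

theorem exists_basis : ∀ {m : ℕ} (P : Par R m), P.Valid →
    ∃ b : Module.Basis (Idx m) R P.Alg, ∀ i, b i = Ideal.Quotient.mk _ (mon i)
  | 0, P, _ => by
    obtain ⟨hli, hsp⟩ : LinearIndependent R (cmon3 R P.A (P.CB - P.C0) P.C0 P.D) ∧
        Submodule.span R (Set.range (cmon3 R P.A (P.CB - P.C0) P.C0 P.D)) = ⊤ := by
      rcases subsingleton_or_nontrivial R with hR | hR
      · haveI : Subsingleton (CurveAlg3 R P.A (P.CB - P.C0) P.C0 P.D) := Module.subsingleton R _
        exact ⟨linearIndependent_of_subsingleton, Subsingleton.elim _ _⟩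
      exact S18251.basis3 R _ _ _ _
    let e : P.Alg ≃ₐ[R] CurveAlg3 R P.A (P.CB - P.C0) P.C0 P.D :=
      Ideal.quotientEquivAlg _ _ (renameEquiv R twoEquiv) P.span_rels_zero
    let ι : Idx 0 ≃ Option (ℕ ⊕ (Fin 2 × ℕ)) :=
      Equiv.optionCongr (Equiv.sumCongr (Equiv.refl ℕ) (Equiv.prodCongr twoEquiv (Equiv.refl ℕ)))
    refine ⟨((Module.Basis.mk hli hsp.ge).map e.symm.toLinearEquiv).reindex ι.symm, fun i => ?_⟩
    rw [Module.Basis.reindex_apply, Module.Basis.map_apply, Module.Basis.mk_apply, Equiv.symm_symm]
    refine e.injective ((e.apply_symm_apply _).trans ?_)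
    show _ = Ideal.Quotient.mk _ (rename twoEquiv (mon i))
    rcases i with _ | (k | ⟨y, k⟩)
    · simp [mon, ι, cmon3]
    · simp only [mon, map_mul, map_pow, rename_X]; rfl
    · simp only [mon, map_pow, rename_X]; rfl
  | m + 1, P, hP => by
    obtain ⟨b, hb⟩ := exists_basis P.init hP.init
    have hg := P.good hP
    let e : Mdl P.init.rels ≃ₗ[R] P.Alg := (extEquiv hg).trans P.extAlgEquiv.toLinearEquiv
    refine ⟨((b.prod (Polynomial.basisMonomials R)).map e).reindex (Equiv.ofBijective _ (idxFun_bijective m)),
      fun i => ?_⟩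
    obtain ⟨j, rfl⟩ := (Equiv.ofBijective _ (idxFun_bijective m)).surjective i
    rw [Module.Basis.reindex_apply, Equiv.symm_apply_apply, Module.Basis.map_apply]
    show P.extAlgEquiv (toExt _ _ _ _) = Ideal.Quotient.mk _ (mon (idxFun m j))
    rcases j with j | k
    · rw [show (b.prod (Polynomial.basisMonomials R)) (Sum.inl j) = (b j, 0) from
        Prod.ext (Module.Basis.prod_apply_inl_fst b _ j) (Module.Basis.prod_apply_inl_snd b _ j), toExt_apply,
        map_zero, mul_zero, add_zero, hb]
      show P.extAlgEquiv (Ideal.Quotient.mk _ (rename some (mon j))) = _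
      rw [extAlgEquiv_mk, rename_rename]
      rcases j with _ | (l | ⟨y, l⟩)
      · simp [mon, idxFun]
      · simp only [mon, idxFun, map_mul, map_pow, rename_X]; rfl
      · simp only [mon, idxFun, map_pow, rename_X]; rfl
    · rw [show (b.prod (Polynomial.basisMonomials R)) (Sum.inr k) = ((0 : Base P.init.rels), Polynomial.monomial k 1) from
        Prod.ext (Module.Basis.prod_apply_inr_fst b _ k)
          ((Module.Basis.prod_apply_inr_snd b _ k).trans (congrFun (Polynomial.coe_basisMonomials R) k)), toExt_apply,
        map_zero, zero_add, Polynomial.aeval_monomial, map_one, one_mul]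
      show P.extAlgEquiv (gen _ _ _ * gen _ _ _ ^ k) = _
      rw [← pow_succ', map_pow, gen, extAlgEquiv_mk, rename_X, varEquiv_none, ← map_pow]
      rfl

end Par

end Groth.Agent.CurveBasis
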