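import Mathlib
import Groth.Agent.CurveBasis.Basis

/-!
# The monomials form a basis exactly over the moduli algebra
-/

set_option autoImplicit false
set_option backward.isDefEq.respectTransparency false
set_option linter.unusedSimpArgs false
universe u

namespace Groth.Agent.CurveBasis

open MvPolynomial W4c5m1nsnscurves

variable {R : Type u} [CommRing R] {m : ℕ}

/-- The parameters given by values at the generators. -/
noncomputable def ofVal (v : UGen m → R) (hm : 1 ≤ m) : Par R m where
  A := v .a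
  C0 := v .c
  CB := v .cb
  D := v (.ci ⟨0, hm⟩) * (v .a + v (.ci ⟨0, hm⟩) + v (.cbi ⟨0, hm⟩)) * v (.cbi ⟨0, hm⟩) -
    v (.ci ⟨0, hm⟩) * v .cb - v (.cbi ⟨0, hm⟩) * v .c - v .a * v .c
  g i := v (.ci i)
  h i := v (.cbi i)
  e i j := if h : i ≠ j then v (.cij i j h) else 0

theorem ofVal_e (v : UGen m → R) (hm : 1 ≤ m) {i j : Fin m} (h : i ≠ j) :
    (ofVal v hm).e i j = v (.cij i j h) := dif_pos h

theorem valid_ofVal (v : UGen m → R) (hm : 1 ≤ m) (h : ∀ p ∈ URel R m, eval v p = 0) : (ofVal v hm).Valid := by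
  have hlin : ∀ i j, (hij : i ≠ j) →
      v (.cij i j hij) + v (.cij j i hij.symm) = v .a + v (.ci i) + v (.cbi i) + v (.ci j) + v (.cbi j) := fun i j hij => by
    have := h _ (Or.inl (Or.inl (Or.inl ⟨⟨(i, j), hij⟩, rfl⟩)))
    simp only [map_sub, map_add, eval_X] at this
    linear_combination this
  have hc : ∀ i j, (hij : i ≠ j) →
      v .c = v (.cij j i hij.symm) * v (.ci j) + v (.cij i j hij) * v (.ci i) - v (.ci i) * v (.ci j) := fun i j hij => by
    have := h _ (Or.inl (Or.inl (Or.inr ⟨⟨(i, j), hij⟩, rfl⟩)))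
    simp only [map_sub, map_add, map_mul, eval_X] at this
    linear_combination -this
  have hb : ∀ i j, (hij : i ≠ j) →
      v .cb = v (.cij j i hij.symm) * v (.cbi i) + v (.cij i j hij) * v (.cbi j) - v (.cbi i) * v (.cbi j) := fun i j hij => by
    have := h _ (Or.inl (Or.inr ⟨⟨(i, j), hij⟩, rfl⟩))
    simp only [map_sub, map_add, map_mul, eval_X] at this
    linear_combination -this
  refine ⟨fun i => ?_, fun i j hij => ?_, fun i j hij => ?_, fun i j hij => ?_, fun i j l h1 h2 h3 => ?_⟩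
  · simp only [ofVal, Par.dval, Par.k]
    rcases eq_or_ne i ⟨0, hm⟩ with rfl | hi
    · rfl
    · have e1 := hlin i _ hi
      have e2 := hc i _ hi
      have e3 := hb i _ hi
      linear_combination (v (.ci i) * v (.cbi i) - v (.ci ⟨0, hm⟩) * v (.cbi ⟨0, hm⟩)) * e1 +
        (v (.cbi i) - v (.cbi ⟨0, hm⟩)) * e2 + (v (.ci i) - v (.ci ⟨0, hm⟩)) * e3
  · rw [ofVal_e v hm hij, ofVal_e v hm hij.symm]; exact hlin i j hij
  · rw [ofVal_e v hm hij, ofVal_e v hm hij.symm]; exact hc i j hij
  · rw [ofVal_e v hm hij, ofVal_e v hm hij.symm]; exact hb i j hij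
  · rw [ofVal_e v hm h1, ofVal_e v hm h1.symm, ofVal_e v hm h2, ofVal_e v hm h3]
    have := h _ (Or.inr ⟨⟨(i, j, l), h1, h2, h3⟩, rfl⟩)
    simp only [map_sub, map_add, map_mul, eval_X] at this
    simp only [ofVal]
    linear_combination this

theorem span_rels_ofVal (v : UGen m → R) (hm : 1 ≤ m) :
    Ideal.span (ofVal v hm).rels = Ideal.span (CRel R m v) := by
  have h1 : ∀ i, (ofVal v hm).rel1 i ∈ Ideal.span (CRel R m v) := fun i =>
    Ideal.subset_span (Or.inl (Or.inl ⟨i, rfl⟩))
  have h2 : ∀ i, (ofVal v hm).rel2 i ∈ Ideal.span (CRel R m v) := fun i =>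
    Ideal.subset_span (Or.inl (Or.inr ⟨i, rfl⟩))
  refine le_antisymm (Ideal.span_le.2 ?_) (Ideal.span_le.2 ?_)
  · rintro f (((rfl | ⟨i, rfl⟩) | ⟨i, rfl⟩) | ⟨⟨⟨i, j⟩, hij⟩, rfl⟩)
    · have : (ofVal v hm).cubic = (C ((ofVal v hm).k ⟨0, hm⟩) - X .x3) * (ofVal v hm).rel1 ⟨0, hm⟩ +
          (X .x2 - C ((ofVal v hm).g ⟨0, hm⟩)) * (ofVal v hm).rel2 ⟨0, hm⟩ := by
        simp only [Par.cubic, Par.rel1, Par.rel2, Par.k, ofVal, map_sub, map_add, map_mul]
        ring
      rw [SetLike.mem_coe, this]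
      exact Ideal.add_mem _ (Ideal.mul_mem_left _ _ (h1 _)) (Ideal.mul_mem_left _ _ (h2 _))
    · exact h1 i
    · exact h2 i
    · refine Ideal.subset_span (Or.inr ⟨⟨(i, j), hij⟩, ?_⟩)
      simp only [Par.rel3]
      rw [ofVal_e v hm hij, ofVal_e v hm (Ne.symm hij)]
      rfl
  · rintro f ((⟨i, rfl⟩ | ⟨i, rfl⟩) | ⟨⟨⟨i, j⟩, hij⟩, rfl⟩)
    · exact Ideal.subset_span ((ofVal v hm).rel1_mem i)
    · exact Ideal.subset_span ((ofVal v hm).rel2_mem i)
    · have := Ideal.subset_span (α := MvPolynomial (CVar m) R) ((ofVal v hm).rel3_mem (i := i) (j := j) hij)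
      simp only [Par.rel3] at this
      rwa [ofVal_e v hm hij, ofVal_e v hm (Ne.symm hij)] at this

theorem mon_eq_cmon (v : UGen m → R) (i : Idx m) : Ideal.Quotient.mk _ (mon i) = cmon R m v i := by
  rcases i with _ | (k | ⟨y, k⟩) <;> simp [mon, cmon]

theorem exists_basis_curveAlg (v : UGen m → R) (hm : 1 ≤ m) (h : ∀ p ∈ URel R m, eval v p = 0) :
    ∃ b : Module.Basis (Idx m) R (CurveAlg R m v), ⇑b = cmon R m v := by
  obtain ⟨b, hb⟩ := (ofVal v hm).exists_basis (valid_ofVal v hm h)
  refine ⟨b.map (Ideal.quotientEquivAlgOfEq R (span_rels_ofVal v hm)).toLinearEquiv, funext fun i => ?_⟩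
  rw [Module.Basis.map_apply, hb, ← mon_eq_cmon]
  rfl

set_option maxHeartbeats 1600000 in
theorem urel_of_basis (v : UGen m → R) (hli : LinearIndependent R (cmon R m v)) :
    ∀ p ∈ URel R m, eval v p = 0 := by
  classical
  let mk := Ideal.Quotient.mk (Ideal.span (CRel R m v))
  let c : R →+* CurveAlg R m v := mk.comp C
  have hc : ∀ r, Ideal.Quotient.mk (Ideal.span (CRel R m v)) (C r) = c r := fun r => rfl
  set x := mk (X CVar.x2) with hx
  set y := mk (X CVar.x3) with hy
  set z := fun i => mk (X (CVar.xi i)) with hz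
  have h1 : ∀ i, x * z i - (x * y + c (v (.ci i)) * z i + c (v (.cbi i)) * x - c (v .c)) = 0 := fun i => by
    have := Ideal.Quotient.eq_zero_iff_mem.2
      (Ideal.subset_span (α := MvPolynomial (CVar m) R) (s := CRel R m v) (Or.inl (Or.inl ⟨i, rfl⟩)))
    simp only [map_sub, map_add, map_mul, hc] at this
    exact this
  have h2 : ∀ i, y * z i - (x * y + (c (v .a) + c (v (.ci i)) + c (v (.cbi i))) * (z i - c (v (.cbi i))) +
      c (v .cb) - c (v .c)) = 0 := fun i => by
    have := Ideal.Quotient.eq_zero_iff_mem.2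
      (Ideal.subset_span (α := MvPolynomial (CVar m) R) (s := CRel R m v) (Or.inl (Or.inr ⟨i, rfl⟩)))
    simp only [map_sub, map_add, map_mul, hc] at this
    exact this
  have h3 : ∀ i j, (hij : i ≠ j) →
      z i * z j - (x * y + c (v (.cij i j hij)) * z j + c (v (.cij j i hij.symm)) * z i - c (v .c)) = 0 := fun i j hij => by
    have := Ideal.Quotient.eq_zero_iff_mem.2
      (Ideal.subset_span (α := MvPolynomial (CVar m) R) (s := CRel R m v) (Or.inr ⟨⟨(i, j), hij⟩, rfl⟩))
    simp only [map_sub, map_add, map_mul, hc] at this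
    exact this
  have hmon : cmon R m v none = 1 ∧ cmon R m v (some (.inl 0)) = x * y ∧
      cmon R m v (some (.inr (.x2, 0))) = x ∧ ∀ i, cmon R m v (some (.inr (.xi i, 0))) = z i :=
    ⟨rfl, by simp [cmon, hx, hy, mk], by simp [cmon, hx, mk], fun i => by simp [cmon, hz, mk]⟩
  have hsmul : ∀ (r : R) (w : CurveAlg R m v), c r * w = r • w := fun r w => (smul_eq_mk _ r w).symm
  have hpair : ∀ i j, (hij : i ≠ j) →
      v (.cij i j hij) + v (.cij j i hij.symm) = v .a + v (.ci i) + v (.cbi i) + v (.ci j) + v (.cbi j) ∧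
      v .c = v (.cij j i hij.symm) * v (.ci j) + v (.cij i j hij) * v (.ci i) - v (.ci i) * v (.ci j) ∧
      v .cb = v (.cij j i hij.symm) * v (.cbi i) + v (.cij i j hij) * v (.cbi j) - v (.cbi i) * v (.cbi j) := by
    intro i j hij
    set L := v (.cij i j hij) + v (.cij j i hij.symm) - (v .a + v (.ci j) + v (.cbi j)) - v (.ci i) - v (.cbi i) with hL
    set B := v (.cij i j hij) * v (.cbi j) + v (.cij j i hij.symm) * v (.cbi i) - v .cb - v (.cbi i) * v (.cbi j) with hB
    set K := v (.cij i j hij) * v (.ci j) - v (.ci j) * (v .a + v (.ci j) + v (.cbi j)) -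
      v (.ci i) * v (.cij i j hij) - v (.cbi i) * v (.ci j) + v .c with hK
    have key : c L * (x * y) + c (-(L * v .c)) * 1 + c B * x + c K * z j = 0 := by
      simp only [hL, hB, hK, map_sub, map_add, map_mul, map_neg]
      linear_combination
        -(x - c (v (.ci i))) * h3 i j hij - (c (v (.cij j i hij.symm)) - z j) * h1 i -
          (c (v (.cij i j hij)) - c (v (.cbi i)) - (c (v .a) + c (v (.ci j)) + c (v (.cbi j)))) * h1 j + x * h2 j
    simp only [hsmul, ← hmon.2.1] at key
    simp only [← hmon.1, ← hmon.2.2.1, ← hmon.2.2.2] at key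
    have hk := linearIndependent_iff'.1 hli
      {some (.inl 0), none, some (.inr (.x2, 0)), some (.inr (.xi j, 0))}
      (fun o => if o = some (.inl 0) then L else if o = none then -(L * v .c) else
        if o = some (.inr (.x2, 0)) then B else K)
      (by simpa [Finset.sum_insert, add_assoc] using key)
    have hL0 : L = 0 := by simpa using hk (some (.inl 0)) (by simp)
    have hB0 : B = 0 := by simpa using hk (some (.inr (.x2, 0))) (by simp)
    have hK0 : K = 0 := by simpa using hk (some (.inr (.xi j, 0))) (by simp)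
    rw [hL] at hL0; rw [hB] at hB0; rw [hK] at hK0
    exact ⟨by linear_combination hL0, by linear_combination hK0 - v (.ci j) * hL0, by linear_combination -hB0⟩
  have htri : ∀ i j l, (h1' : i ≠ j) → (h2' : j ≠ l) → (h3' : i ≠ l) →
      v (.cij i j h1') * v (.cij j l h2') + v (.cij j i h1'.symm) * v (.cij i l h3') -
        v (.cij i l h3') * v (.cij j l h2') + (v .a + v (.ci l) + v (.cbi l)) * v (.ci l) = v .c := by
    intro i j l a1 a2 a3
    set ki := v .a + v (.ci i) + v (.cbi i) with hki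
    set kl := v .a + v (.ci l) + v (.cbi l) with hkl
    set M := ki - kl + v (.cij j l a2) + v (.cij l j a2.symm) - v (.cij i j a1) - v (.cij j i a1.symm) with hM
    set Z := v (.ci i) * ki + v (.cij j l a2) * v (.cij l i a3.symm) + v (.cij l j a2.symm) * v (.cij j i a1.symm) -
      v .c - v (.cij j i a1.symm) * v (.cij l i a3.symm) with hZ
    set W := -(v (.ci l) * kl) + v (.cij j l a2) * v (.cij i l a3) - v (.cij i j a1) * v (.cij j l a2) -
      v (.cij j i a1.symm) * v (.cij i l a3) + v .c with hW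
    set N := v (.ci i) * (v .cb - v .c - ki * v (.cbi i)) - v (.ci l) * (v .cb - v .c - kl * v (.cbi l)) -
      v .c * (v (.cij j l a2) + v (.cij l j a2.symm) - v (.cij i j a1) - v (.cij j i a1.symm)) with hN
    have key : c M * (x * y) + c N * 1 + c Z * z i + c W * z l = 0 := by
      simp only [hM, hN, hZ, hW, hki, hkl, map_sub, map_add, map_mul, map_neg]
      linear_combination
        (z l * h3 i j a1 - z i * h3 j l a2) -
        (y * h1 i + c (v (.ci i)) * h2 i - y * h1 l - c (v (.ci l)) * h2 l +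
          (c (v (.cij j l a2)) - c (v (.cij j i a1.symm))) * h3 i l a3 + c (v (.cij l j a2.symm)) * h3 i j a1 -
          c (v (.cij i j a1)) * h3 j l a2)
    simp only [hsmul, ← hmon.2.1] at key
    simp only [← hmon.1, ← hmon.2.2.2] at key
    have hk := linearIndependent_iff'.1 hli
      {some (.inl 0), none, some (.inr (.xi i, 0)), some (.inr (.xi l, 0))}
      (fun o => if o = some (.inl 0) then M else if o = none then N else
        if o = some (.inr (.xi i, 0)) then Z else W)
      (by simpa [Finset.sum_insert, add_assoc, a3, a3.symm] using key)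
    have hW0 : W = 0 := by simpa [a3, a3.symm] using hk (some (.inr (.xi l, 0))) (by simp)
    rw [hW, hkl] at hW0
    linear_combination -hW0
  rintro p (((⟨⟨⟨i, j⟩, hij⟩, rfl⟩ | ⟨⟨⟨i, j⟩, hij⟩, rfl⟩) | ⟨⟨⟨i, j⟩, hij⟩, rfl⟩) | ⟨⟨⟨i, j, l⟩, a1, a2, a3⟩, rfl⟩)
  · simp only [map_sub, map_add, eval_X]
    linear_combination (hpair i j hij).1
  · simp only [map_sub, map_add, map_mul, eval_X]
    linear_combination -(hpair i j hij).2.1
  · simp only [map_sub, map_add, map_mul, eval_X]
    linear_combination -(hpair i j hij).2.2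
  · simp only [map_sub, map_add, map_mul, eval_X]
    linear_combination htri i j l a1 a2 a3

theorem basis_iff (m : ℕ) (hm : 1 ≤ m) (v : UGen m → R) :
    (LinearIndependent R (cmon R m v) ∧ Submodule.span R (Set.range (cmon R m v)) = ⊤) ↔
      ∀ p ∈ URel R m, eval v p = 0 := by
  refine ⟨fun h => urel_of_basis v h.1, fun h => ?_⟩
  obtain ⟨b, hb⟩ := exists_basis_curveAlg v hm h
  rw [← hb]
  exact ⟨b.linearIndependent, b.span_eq⟩

end Groth.Agent.CurveBasis
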