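import Mathlib
import Groth.Prelude.Def_GrQuot
import Groth.Prelude.Def_W4c5m1nsnscurvesI
import Groth.Agent.S18247
import Groth.Agent.S18252
import Groth.Agent.CurveBasis.Main

/-!
# The Hilbert series of the moduli algebras
-/

set_option autoImplicit false
set_option backward.isDefEq.respectTransparency false
set_option linter.unusedSimpArgs false

namespace Groth.Agent.CurveBasis

open MvPolynomial W4c5m1nsnscurves

variable {m : ℕ}

attribute [local instance] MvPolynomial.weightedGradedAlgebra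

theorem uwt_castSucc (g : UGen m) : uwt g.castSucc = uwt g := by cases g <;> rfl

theorem isHomog_urel (m : ℕ) :
    GrQuot.IsHomog (weightedHomogeneousSubmodule ℤ (uwt (m := m))) (Ideal.span (URel ℤ m)) := by
  rw [GrQuot.isHomog_iff]
  refine Ideal.homogeneous_span _ _ ?_
  have hX : ∀ g : UGen m, (X g : MvPolynomial (UGen m) ℤ) ∈ weightedHomogeneousSubmodule ℤ uwt (uwt g) := fun g =>
    isWeightedHomogeneous_X ℤ uwt g
  have hXX : ∀ g g' : UGen m, uwt g = 1 → uwt g' = 1 →
      (X g * X g' : MvPolynomial (UGen m) ℤ) ∈ weightedHomogeneousSubmodule ℤ uwt 2 := fun g g' h h' => by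
    have := SetLike.mul_mem_graded (hX g) (hX g')
    rwa [h, h'] at this
  rintro f (((⟨q, rfl⟩ | ⟨q, rfl⟩) | ⟨q, rfl⟩) | ⟨q, rfl⟩)
  · exact ⟨1, Submodule.sub_mem _ (Submodule.add_mem _ (hX _) (hX _))
      (Submodule.add_mem _ (Submodule.add_mem _ (Submodule.add_mem _ (Submodule.add_mem _ (hX _) (hX _)) (hX _))
        (hX _)) (hX _))⟩
  · exact ⟨2, Submodule.sub_mem _ (Submodule.sub_mem _ (Submodule.add_mem _ (hXX _ _ rfl rfl) (hXX _ _ rfl rfl))
      (hXX _ _ rfl rfl)) (hX _)⟩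
  · exact ⟨2, Submodule.sub_mem _ (Submodule.sub_mem _ (Submodule.add_mem _ (hXX _ _ rfl rfl) (hXX _ _ rfl rfl))
      (hXX _ _ rfl rfl)) (hX _)⟩
  · refine ⟨2, Submodule.sub_mem _ (Submodule.add_mem _ (Submodule.sub_mem _ (Submodule.add_mem _ (hXX _ _ rfl rfl)
      (hXX _ _ rfl rfl)) (hXX _ _ rfl rfl)) ?_) (hX _)⟩
    rw [add_mul, add_mul]
    exact Submodule.add_mem _ (Submodule.add_mem _ (hXX _ _ rfl rfl) (hXX _ _ rfl rfl)) (hXX _ _ rfl rfl)

theorem isInternal_upiece (m : ℕ) : DirectSum.IsInternal (upiece ℤ m) := by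
  haveI := isHomog_urel m
  exact DirectSum.Decomposition.isInternal (GrQuot.quot (weightedHomogeneousSubmodule ℤ (uwt (m := m)))
    (Ideal.span (URel ℤ m)))

theorem ugen_mem (g : UGen m) : ugen ℤ m g ∈ upiece ℤ m (uwt g) :=
  GrQuot.mk_mem_quot _ _ (isWeightedHomogeneous_X ℤ uwt g)

theorem ugen_mem_one (g : UGen m) (h : uwt g = 1) : ugen ℤ m g ∈ upiece ℤ m 1 := by
  have := ugen_mem g
  rwa [h] at this

theorem mul_mem_upiece {a b : ℕ} {x y : URing ℤ m} (hx : x ∈ upiece ℤ m a) (hy : y ∈ upiece ℤ m b) :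
    x * y ∈ upiece ℤ m (a + b) := by
  obtain ⟨f, hf, rfl⟩ := (GrQuot.mem_quot_iff _ _ _ _).1 hx
  obtain ⟨g, hg, rfl⟩ := (GrQuot.mem_quot_iff _ _ _ _).1 hy
  rw [← map_mul]
  exact GrQuot.mk_mem_quot _ _ (SetLike.mul_mem_graded hf hg)

theorem one_mem_upiece : (1 : URing ℤ m) ∈ upiece ℤ m 0 := by
  rw [← map_one (Ideal.Quotient.mk (Ideal.span (URel ℤ m)))]
  exact GrQuot.mk_mem_quot _ _ (isWeightedHomogeneous_one ℤ uwt)

theorem pow_mem_upiece {x : URing ℤ m} (hx : x ∈ upiece ℤ m 1) : ∀ n : ℕ, x ^ n ∈ upiece ℤ m n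
  | 0 => by rw [pow_zero]; exact one_mem_upiece
  | n + 1 => by rw [pow_succ]; exact mul_mem_upiece (pow_mem_upiece hx n) hx

theorem uincl_mem {a : ℕ} {x : URing ℤ m} (hx : x ∈ upiece ℤ m a) : uincl ℤ m x ∈ upiece ℤ (m + 1) a := by
  obtain ⟨f, hf, rfl⟩ := (GrQuot.mem_quot_iff _ _ _ _).1 hx
  show Ideal.Quotient.mk _ (rename UGen.castSucc f) ∈ _
  refine GrQuot.mk_mem_quot _ _ ?_
  have hw : (uwt : UGen (m + 1) → ℕ) ∘ UGen.castSucc = uwt := funext uwt_castSucc
  rw [mem_weightedHomogeneousSubmodule] at hf ⊢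
  intro d hd
  obtain ⟨e, rfl, he⟩ := coeff_rename_ne_zero _ _ _ hd
  have := hf he
  rw [← this]
  show Finsupp.weight uwt (Finsupp.mapDomain UGen.castSucc e) = _
  rw [Finsupp.weight_apply, Finsupp.weight_apply, Finsupp.sum_mapDomain_index (by simp) (fun _ _ _ => add_smul _ _ _)]
  exact Finsupp.sum_congr fun g _ => by rw [uwt_castSucc]

/-- A homogeneous basis with finite fibres. -/
structure GBasis (m : ℕ) (S : PowerSeries ℤ) where
  idx : Type
  b : Module.Basis idx ℤ (URing ℤ m)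
  deg : idx → ℕ
  mem : ∀ i, b i ∈ upiece ℤ m (deg i)
  fib : ℕ → Finset idx
  mem_fib : ∀ d i, i ∈ fib d ↔ deg i = d
  card_fib : ∀ d, ((fib d).card : ℤ) = PowerSeries.coeff d S

theorem GBasis.finrank_eq {S : PowerSeries ℤ} (B : GBasis m S) (d : ℕ) :
    (Module.finrank ℤ (upiece ℤ m d) : ℤ) = PowerSeries.coeff d S := by
  classical
  haveI := isHomog_urel m
  let 𝒜 := GrQuot.quot (weightedHomogeneousSubmodule ℤ (uwt (m := m))) (Ideal.span (URel ℤ m))
  have hspan : upiece ℤ m d = Submodule.span ℤ (Set.range fun i : ↥(B.fib d) => B.b i.1) := by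
    refine le_antisymm (fun x hx => ?_) (Submodule.span_le.2 ?_)
    · have hx' : (DirectSum.decompose 𝒜 x d : URing ℤ m) = x := DirectSum.decompose_of_mem_same 𝒜 hx
      rw [← hx', ← B.b.linearCombination_repr x, Finsupp.linearCombination_apply, Finsupp.sum,
        DirectSum.decompose_sum, DFinsupp.finsetSum_apply, AddSubmonoidClass.coe_finsetSum]
      refine Submodule.sum_mem _ fun i _ => ?_
      have hm : B.b.repr x i • B.b i ∈ 𝒜 (B.deg i) := Submodule.smul_mem _ _ (B.mem i)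
      by_cases h : B.deg i = d
      · subst h
        rw [DirectSum.decompose_of_mem_same 𝒜 hm]
        exact Submodule.smul_mem _ _ (Submodule.subset_span ⟨⟨i, (B.mem_fib _ i).2 rfl⟩, rfl⟩)
      · rw [DirectSum.decompose_of_mem_ne 𝒜 hm h]
        exact Submodule.zero_mem _
    · rintro _ ⟨⟨i, hi⟩, rfl⟩
      have := (B.mem_fib d i).1 hi
      subst this
      exact B.mem i
  rw [hspan, finrank_span_eq_card (b := fun i : ↥(B.fib d) => B.b i.1)
    (B.b.linearIndependent.comp Subtype.val Subtype.val_injective), Fintype.card_coe]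
  exact B.card_fib d

/-- The series of the geometric progression. -/
noncomputable def geo : PowerSeries ℤ := PowerSeries.mk fun _ => (1 : ℤ)

theorem exists_gbasis_two : Nonempty (GBasis 2 (uhilb 2)) := by
  classical
  let f : Fin 6 → UGen 2 := ![.a, .ci 0, .cbi 0, .ci 1, .cbi 1, .cij 0 1 Fin.zero_ne_one]
  let φ : MvPolynomial (Fin 6) ℤ →ₐ[ℤ] URing ℤ 2 := aeval fun i => ugen ℤ 2 (f i)
  have hφ : Function.Bijective φ := by
    have : φ = aeval (R := ℤ) (S₁ := URing ℤ 2) ![ugen ℤ 2 .a, ugen ℤ 2 (.ci 0), ugen ℤ 2 (.cbi 0), ugen ℤ 2 (.ci 1),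
        ugen ℤ 2 (.cbi 1), ugen ℤ 2 (.cij 0 1 Fin.zero_ne_one)] := by
      refine algHom_ext fun i => ?_
      simp only [φ, aeval_X]
      fin_cases i <;> rfl
    rw [this]
    exact S18247.result
  let e : MvPolynomial (Fin 6) ℤ ≃ₗ[ℤ] URing ℤ 2 := LinearEquiv.ofBijective φ.toLinearMap hφ
  refine ⟨⟨Fin 6 →₀ ℕ, (MvPolynomial.basisMonomials (Fin 6) ℤ).map e, fun β => ∑ i, β i, fun β => ?_,
    fun d => (Finset.univ : Finset (Fin 6)).finsuppAntidiag d, fun d β => ?_, fun d => ?_⟩⟩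
  · rw [Module.Basis.map_apply, coe_basisMonomials]
    show φ (monomial β 1) ∈ _
    rw [aeval_monomial, map_one, one_mul, Finsupp.prod_fintype _ _ (fun i => pow_zero _)]
    have : ∀ s : Finset (Fin 6), (∏ i ∈ s, ugen ℤ 2 (f i) ^ β i) ∈ upiece ℤ 2 (∑ i ∈ s, β i) := by
      intro s
      induction s using Finset.induction_on with
      | empty => simpa using one_mem_upiece
      | insert a s ha ih =>
        rw [Finset.prod_insert ha, Finset.sum_insert ha]
        refine mul_mem_upiece (pow_mem_upiece ?_ _) ih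
        have : uwt (f a) = 1 := by fin_cases a <;> rfl
        exact this ▸ ugen_mem (f a)
    exact this Finset.univ
  · rw [Finset.mem_finsuppAntidiag]
    exact ⟨fun h => h.1, fun h => ⟨h, Finset.subset_univ _⟩⟩
  · have h : uhilb 2 = ∏ _i : Fin 6, geo := by
      rw [uhilb, Finset.Icc_eq_empty (by norm_num), Finset.prod_empty, mul_one, Finset.prod_const, Finset.card_univ,
        Fintype.card_fin]
      rfl
    rw [h, PowerSeries.coeff_prod]
    simp [geo]

/-- The weights of the monomials. -/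
def monDeg : Idx m → ℕ
  | none => 0
  | some (.inl k) => k + 2
  | some (.inr (_, k)) => k + 1

instance : Fintype (CVar m) :=
  Fintype.ofEquiv (Option (Option (Fin m)))
    { toFun := fun o => match o with
        | none => .x2
        | some none => .x3
        | some (some i) => .xi i
      invFun := fun y => match y with
        | .x2 => none
        | .x3 => some none
        | .xi i => some (some i)
      left_inv := fun o => by rcases o with _ | _ | i <;> rfl
      right_inv := fun y => by cases y <;> rfl }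

theorem card_cvar : Fintype.card (CVar m) = m + 2 := by
  rw [Fintype.ofEquiv_card, Fintype.card_option, Fintype.card_option, Fintype.card_fin]

/-- The monomials of a given weight. -/
noncomputable def monFib (m : ℕ) : ℕ → Finset (Idx m)
  | 0 => {none}
  | 1 => Finset.univ.map ⟨fun y => some (.inr (y, 0)), fun a b h => by simpa using h⟩
  | k + 2 => Finset.cons (some (.inl k))
      (Finset.univ.map ⟨fun y => some (.inr (y, k + 1)), fun a b h => by simpa using h⟩) (by simp)

theorem mem_monFib : ∀ (d : ℕ) (i : Idx m), i ∈ monFib m d ↔ monDeg i = d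
  | 0, i => by rcases i with _ | (k | ⟨y, k⟩) <;> simp [monFib, monDeg]
  | 1, i => by rcases i with _ | (k | ⟨y, k⟩) <;> simp [monFib, monDeg, eq_comm]
  | d + 2, i => by rcases i with _ | (k | ⟨y, k⟩) <;> simp [monFib, monDeg, eq_comm]

theorem coeff_factor (a : ℤ) (d : ℕ) :
    PowerSeries.coeff d ((1 + PowerSeries.C a * PowerSeries.X + PowerSeries.X ^ 2) * geo) =
      1 + (if 1 ≤ d then a else 0) + (if 2 ≤ d then 1 else 0) := by
  rw [add_mul, add_mul, one_mul, map_add, map_add, mul_assoc, PowerSeries.coeff_C_mul, pow_two, mul_assoc]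
  rcases d with _ | _ | d <;>
    simp [geo, PowerSeries.coeff_succ_X_mul, PowerSeries.coeff_zero_X_mul]

theorem card_monFib : ∀ d : ℕ, ((monFib m d).card : ℤ) =
    PowerSeries.coeff d ((1 + PowerSeries.C ((m + 1 : ℕ) : ℤ) * PowerSeries.X + PowerSeries.X ^ 2) * geo)
  | 0 => by rw [coeff_factor]; simp [monFib]
  | 1 => by rw [coeff_factor]; simp [monFib, card_cvar]; ring
  | d + 2 => by rw [coeff_factor]; simp [monFib, card_cvar]; ring

theorem uhilb_succ (hm : 2 ≤ m) :
    uhilb (m + 1) = uhilb m * ((1 + PowerSeries.C ((m + 1 : ℕ) : ℤ) * PowerSeries.X + PowerSeries.X ^ 2) * geo) := by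
  rw [uhilb, uhilb, Finset.prod_Icc_succ_top (by omega), geo, show m + 1 + 4 = (m + 4) + 1 by omega, pow_succ]
  ring

set_option maxHeartbeats 1000000 in
theorem exists_gbasis_succ (hm : 2 ≤ m) (h : Nonempty (GBasis m (uhilb m))) :
    Nonempty (GBasis (m + 1) (uhilb (m + 1))) := by
  classical
  obtain ⟨B⟩ := h
  obtain ⟨e, he1, he2, he3, he4⟩ := S18252.result ℤ m (by omega)
  have hv : ∀ p ∈ URel (URing ℤ m) m, eval (ugen ℤ m) p = 0 := by
    intro p hp
    have hq : ∃ q ∈ URel ℤ m, p = MvPolynomial.map (algebraMap ℤ (URing ℤ m)) q := by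
      rcases hp with ((⟨q, rfl⟩ | ⟨q, rfl⟩) | ⟨q, rfl⟩) | ⟨q, rfl⟩
      · exact ⟨_, Or.inl (Or.inl (Or.inl ⟨q, rfl⟩)), by simp⟩
      · exact ⟨_, Or.inl (Or.inl (Or.inr ⟨q, rfl⟩)), by simp⟩
      · exact ⟨_, Or.inl (Or.inr ⟨q, rfl⟩), by simp⟩
      · exact ⟨_, Or.inr ⟨q, rfl⟩, by simp⟩
    obtain ⟨q, hq, rfl⟩ := hq
    rw [eval_map, ← aeval_def]
    have : aeval (ugen ℤ m) q = Ideal.Quotient.mkₐ ℤ (Ideal.span (URel ℤ m)) q := by
      congr 1
      exact algHom_ext fun g => by rw [aeval_X]; rfl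
    rw [this]
    exact Ideal.Quotient.eq_zero_iff_mem.2 (Ideal.subset_span hq)
  obtain ⟨bc, hbc⟩ := exists_basis_curveAlg (ugen ℤ m) (by omega) hv
  let E : CurveAlg (URing ℤ m) m (ugen ℤ m) ≃ₗ[ℤ] URing ℤ (m + 1) := e.toAddEquiv.toIntLinearEquiv
  refine ⟨⟨B.idx × Idx m, (B.b.smulTower bc).map E, fun i => B.deg i.1 + monDeg i.2, fun i => ?_,
    fun d => (Finset.HasAntidiagonal.antidiagonal d).biUnion fun p => B.fib p.1 ×ˢ monFib m p.2, fun d i => ?_, fun d => ?_⟩⟩
  · rw [Module.Basis.map_apply, Module.Basis.smulTower_apply, hbc]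
    show e (B.b i.1 • cmon _ m _ i.2) ∈ _
    rw [smul_eq_mk, map_mul, show Ideal.Quotient.mk (Ideal.span (CRel (URing ℤ m) m (ugen ℤ m))) (C (B.b i.1)) =
      algebraMap (URing ℤ m) (CurveAlg (URing ℤ m) m (ugen ℤ m)) (B.b i.1) from rfl, he1]
    refine mul_mem_upiece (uincl_mem (B.mem i.1)) ?_
    have hX : ∀ y : CVar m, e (Ideal.Quotient.mk _ (X y)) ∈ upiece ℤ (m + 1) 1 := by
      intro y
      cases y with
      | x2 => rw [he2]; exact ugen_mem_one _ rfl
      | x3 => rw [he3]; exact Submodule.add_mem _ (Submodule.add_mem _ (ugen_mem_one _ rfl) (ugen_mem_one _ rfl)) (ugen_mem_one _ rfl)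
      | xi j => rw [he4]; exact ugen_mem_one _ rfl
    rcases i.2 with _ | (k | ⟨y, k⟩)
    · simp only [cmon, monDeg]
      rw [map_one]; exact one_mem_upiece
    · simp only [cmon, monDeg, map_mul, map_pow]
      rw [show k + 2 = (k + 1) + 1 by omega]; exact mul_mem_upiece (pow_mem_upiece (hX _) _) (hX _)
    · simp only [cmon, monDeg, map_mul, map_pow]
      exact pow_mem_upiece (hX _) _
  · simp only [Finset.mem_biUnion, Finset.HasAntidiagonal.mem_antidiagonal, Finset.mem_product, B.mem_fib, mem_monFib]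
    exact ⟨fun ⟨p, hp, h1, h2⟩ => by rw [h1, h2, hp], fun h => ⟨(B.deg i.1, monDeg i.2), h, rfl, rfl⟩⟩
  · rw [Finset.card_biUnion, uhilb_succ hm, PowerSeries.coeff_mul, Nat.cast_sum]
    · refine Finset.sum_congr rfl fun p _ => ?_
      rw [Finset.card_product, Nat.cast_mul, B.card_fib, card_monFib]
    · intro p _ q _ hpq
      refine Finset.disjoint_left.2 fun i hi hi' => hpq ?_
      rw [Finset.mem_product, B.mem_fib, mem_monFib] at hi hi'
      exact Prod.ext (hi.1.symm.trans hi'.1) (hi.2.symm.trans hi'.2)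

theorem main (m : ℕ) (hm : 2 ≤ m) :
    Module.Free ℤ (URing ℤ m) ∧ DirectSum.IsInternal (upiece ℤ m) ∧
      ∀ d : ℕ, (Module.finrank ℤ (upiece ℤ m d) : ℤ) = PowerSeries.coeff d (uhilb m) := by
  have h : Nonempty (GBasis m (uhilb m)) := by
    induction m, hm using Nat.le_induction with
    | base => exact exists_gbasis_two
    | succ k hk ih => exact exists_gbasis_succ hk ih
  obtain ⟨B⟩ := h
  exact ⟨Module.Free.of_basis B.b, isInternal_upiece m, B.finrank_eq⟩

end Groth.Agent.CurveBasis
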